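import Groth.Agent.Lib.CBC10.Edge
import Groth.Agent.Lib.RR22.Kunneth
import Groth.Prelude.Def_ClSub2

/-!
# The edge map is injective in degree one
-/

set_option autoImplicit false
set_option linter.style.haveILetI false
set_option maxHeartbeats 400000
set_option backward.isDefEq.respectTransparency false

universe u

open CategoryTheory CategoryTheory.Limits AlgebraicGeometry TopologicalSpace Opposite Abelian

noncomputable section

namespace Groth.Agent.EdgeOne28

open Groth.Agent.CohFound Groth.Agent.CBC10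

section Top

attribute [-instance] abelianAb hasExtAb isGrothendieckAbelianAb enoughInjectivesAb

variable {X Y : TopCat.{u}} (h : X ⟶ Y)

/-- The edge map in degree one is injective. -/
theorem injective_edgeF_one (N : CohTop.Ab X) : Function.Injective (edgeF h N 1) := by
  have hT := injSC_shortExact N
  haveI : Injective (injSC N).X₂ := inferInstanceAs (Injective (Injective.under N))
  haveI := hT.mono_f
  haveI : Mono ((CohTop.push h).map (injSC N).f) :=
    haveI : PreservesLimitsOfSize.{0, 0} (CohTop.push h) := (CohPull.invPushAdj h).rightAdjoint_preservesLimits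
    Functor.map_mono _ _
  haveI : Injective ((CohTop.push h).obj (injSC N).X₂) :=
    Injective.injective_of_adjoint (CohPull.invPushAdj h) (Injective.under N)
  let f' := (CohTop.push h).map (injSC N).f
  let S' : ShortComplex (CohTop.Ab Y) := ShortComplex.mk f' (cokernel.π f') (cokernel.condition f')
  haveI : Mono S'.f := inferInstanceAs (Mono f')
  haveI : Epi S'.g := inferInstanceAs (Epi (cokernel.π f'))
  haveI : Injective S'.X₂ := inferInstanceAs (Injective ((CohTop.push h).obj (injSC N).X₂))
  have hS' : S'.ShortExact := { exact := ShortComplex.exact_cokernel f' }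
  let ι : S'.X₃ ⟶ (CohTop.push h).obj (injSC N).X₃ := cokernel.desc f' ((CohTop.push h).map (injSC N).g) (by
    rw [← Functor.map_comp, (injSC N).zero, Functor.map_zero])
  let a : S' ⟶ (injSC N).map (CohTop.push h) :=
    { τ₁ := 𝟙 _
      τ₂ := 𝟙 _
      τ₃ := ι
      comm₁₂ := (Category.id_comp _).trans (Category.comp_id _).symm
      comm₂₃ := (Category.id_comp _).trans (cokernel.π_desc f' _ _).symm }
  have hι : Mono ι := by
    haveI : PreservesLimitsOfSize.{0, 0} (CohTop.push h) := (CohPull.invPushAdj h).rightAdjoint_preservesLimits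
    have he : ((injSC N).map (CohTop.push h)).Exact :=
      hT.exact.map_of_mono_of_preservesKernel _ hT.mono_f inferInstance
    exact ((injSC N).map (CohTop.push h)).exact_iff_mono_cokernel_desc.1 he
  refine (injective_iff_map_eq_zero _).2 fun x hx => ?_
  obtain ⟨y, rfl⟩ := Ext.covariant_sequence_exact₁ _ hS' x (Ext.eq_zero_of_injective _) (n₀ := 0) rfl
  have hd : edgeF h N 1 (y.comp hS'.extClass rfl) =
      (edgeF h (injSC N).X₃ 0 (Sheaf.H.map ι 0 y)).comp hT.extClass rfl :=
    (pullF_delta h hS' hT a 0 y).trans (congrArg (fun t => Ext.comp t hT.extClass rfl) (pullF_eq_edgeF h ι 0 y))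
  obtain ⟨z, hz⟩ := Ext.covariant_sequence_exact₃ _ hT (edgeF h (injSC N).X₃ 0 (Sheaf.H.map ι 0 y)) rfl
    (hd.symm.trans hx)
  have h0 : ∀ M : CohTop.Ab X, Function.Bijective (edgeF h M 0) := fun M =>
    bijective_edgeF_locKilled h 0 M fun q hq => absurd hq (Nat.not_lt_zero q)
  obtain ⟨z', rfl⟩ := (h0 _).2 z
  have h1 : Sheaf.H.map ι 0 y = Sheaf.H.map ((CohTop.push h).map (injSC N).g) 0 z' :=
    (h0 _).1 (hz.symm.trans (edgeF_map h (injSC N).g 0 z').symm)
  rw [← show cokernel.π f' ≫ ι = (CohTop.push h).map (injSC N).g from cokernel.π_desc _ _ _,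
    Sheaf.H.map_comp_apply] at h1
  haveI := hι
  have h2 : y = Sheaf.H.map S'.g 0 z' := by
    obtain ⟨y₀, rfl⟩ := Ext.mk₀_bijective _ _ |>.2 y
    obtain ⟨z₀, rfl⟩ := Ext.mk₀_bijective _ _ |>.2 z'
    simp only [Sheaf.H.map_apply, Ext.mk₀_comp_mk₀] at h1 ⊢
    exact congrArg Ext.mk₀ ((cancel_mono ι).1 ((Ext.mk₀_bijective _ _).1 h1))
  rw [h2, Sheaf.H.map_apply]
  refine (Ext.comp_assoc_of_second_deg_zero _ _ _ _).trans ?_
  exact (congrArg (fun t => Ext.comp z' t rfl) hS'.comp_extClass).trans (Ext.comp_zero _ _ _ _ _)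

end Top

variable {X Y : Scheme.{u}}

/-- The edge map of a morphism of schemes is injective in degree one. -/
theorem injective_pushEdge_one (f : X ⟶ Y) (G : X.Modules) : Function.Injective (CohPull.pushEdge f G 1) := by
  have h := injective_edgeF_one (f.base : sp X ⟶ sp Y) ((abF X).obj G)
  have e : ⇑(CohPull.pushEdge f G 1) = ⇑(edgeF (f.base : sp X ⟶ sp Y) ((abF X).obj G) 1) := by
    funext x
    refine (pushEdge_eq f G 1 x).trans ((pullF_eq_edgeF _ _ 1 x).trans (congrArg (edgeF _ _ 1) ?_))
    exact (congrArg (fun t => Sheaf.H.map t 1 x) ((SheafOfModules.toSheaf _).map_id _)).trans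
      (Sheaf.H.map_id_apply x)
  rw [e]
  exact h

theorem isIso_unitToPush_of_isIso_app (f : X ⟶ Y) (hf : ∀ V : Y.Opens, IsIso (f.app V)) :
    IsIso (ClSub.unitToPush f) :=
  Scheme.Modules.Hom.isIso_iff_isIso_app.2 fun V =>
    (ConcreteCategory.isIso_iff_bijective _).2 (haveI := hf V; ConcreteCategory.bijective_of_isIso (f.app V))

end Groth.Agent.EdgeOne28
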